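import Mathlib

/-!
# Mayer--Vietoris from a ladder with an invertible first map
-/

set_option autoImplicit false

universe u

namespace Groth.Agent.BlowSquareLib

variable {K A Q K₁ A₁ K' B Q' K₁' B₁ C D : Type u}
  [AddCommGroup K] [AddCommGroup A] [AddCommGroup Q] [AddCommGroup K₁] [AddCommGroup A₁]
  [AddCommGroup K'] [AddCommGroup B] [AddCommGroup Q'] [AddCommGroup K₁'] [AddCommGroup B₁]
  [AddCommGroup C] [AddCommGroup D]

/-- Two exact rows, an invertible map in the first column, and identifications of the third column. -/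
theorem exists_mayerVietoris
    (f : K →+ A) (g : A →+ Q) (d : Q →+ K₁) (f₁ : K₁ →+ A₁)
    (f' : K' →+ B) (g' : B →+ Q') (d' : Q' →+ K₁') (f₁' : K₁' →+ B₁)
    (k : K →+ K') (β : A →+ B) (γ : Q →+ Q') (k₁ : K₁ →+ K₁') (β₁ : A₁ →+ B₁)
    (hk : Function.Bijective k) (hk₁ : Function.Bijective k₁)
    (cf : ∀ x, β (f x) = f' (k x)) (cg : ∀ x, γ (g x) = g' (β x)) (cd : ∀ x, k₁ (d x) = d' (γ x))
    (cf₁ : ∀ x, β₁ (f₁ x) = f₁' (k₁ x))
    (hfg : Function.Exact f g) (hgd : Function.Exact g d) (hdf : Function.Exact d f₁)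
    (hfg' : Function.Exact f' g') (hgd' : Function.Exact g' d') (hdf' : Function.Exact d' f₁')
    (u : Q →+ C) (hu : Function.Bijective u) (u' : Q' →+ D) (hu' : Function.Bijective u')
    (α : A →+ C) (e₁ : B →+ D) (e₂ : C →+ D)
    (hα : ∀ x, u (g x) = α x) (he₁ : ∀ y, u' (g' y) = e₁ y) (he₂ : ∀ z, u' (γ z) = e₂ (u z)) :
    ∃ δ : D →+ A₁, Function.Exact (fun x => (β x, α x)) (fun v : B × C => e₁ v.1 - e₂ v.2) ∧
      Function.Exact (fun v : B × C => e₁ v.1 - e₂ v.2) δ ∧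
      (∀ v, β₁ (δ v) = 0) ∧ (∀ v, δ v ∈ Set.range f₁) ∧
      ∀ x : A₁, x ∈ Set.range f₁ → β₁ x = 0 → x ∈ Set.range δ := by
  let eU := AddEquiv.ofBijective u' hu'
  let eK := AddEquiv.ofBijective k₁ hk₁
  let δ : D →+ A₁ := f₁.comp (eK.symm.toAddMonoidHom.comp (d'.comp eU.symm.toAddMonoidHom))
  have hδ : ∀ z, δ (u' z) = f₁ (eK.symm (d' z)) := fun z => by
    show f₁ (eK.symm (d' (eU.symm (eU z)))) = _
    rw [eU.symm_apply_apply]
  refine ⟨δ, fun v => ⟨fun hv => ?_, ?_⟩, fun w => ⟨fun hw => ?_, ?_⟩, fun v => ?_, fun v => ⟨_, rfl⟩, ?_⟩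
  · obtain ⟨y, c⟩ := v
    obtain ⟨z, rfl⟩ := hu.2 c
    simp only [← he₁, ← he₂, ← map_sub] at hv
    have h0 : g' y = γ z := sub_eq_zero.1 (hu'.1 (hv.trans (map_zero u').symm))
    have hdz : d z = 0 := hk₁.1 (by rw [cd, ← h0, hgd'.apply_apply_eq_zero, map_zero])
    obtain ⟨x₀, rfl⟩ := (hgd z).1 hdz
    obtain ⟨t, ht⟩ := (hfg' (y - β x₀)).1 (by rw [map_sub, h0, cg, sub_self])
    obtain ⟨s, rfl⟩ := hk.2 t
    refine ⟨x₀ + f s, Prod.ext ?_ ?_⟩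
    · show β (x₀ + f s) = y
      rw [map_add, cf, ht, add_sub_cancel]
    · show α (x₀ + f s) = u (g x₀)
      rw [← hα, map_add, hfg.apply_apply_eq_zero, add_zero]
  · rintro ⟨x, rfl⟩
    show e₁ (β x) - e₂ (α x) = 0
    rw [← he₁, ← hα, ← he₂, cg, sub_self]
  · obtain ⟨z, rfl⟩ := hu'.2 w
    rw [hδ] at hw
    obtain ⟨q, hq⟩ := (hdf _).1 hw
    have h1 : d' (z - γ q) = 0 := by
      rw [map_sub, ← cd, hq]
      show d' z - eK (eK.symm (d' z)) = 0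
      rw [eK.apply_symm_apply, sub_self]
    obtain ⟨y, hy⟩ := (hgd' _).1 h1
    refine ⟨(y, - u q), ?_⟩
    show e₁ y - e₂ (- u q) = u' z
    rw [map_neg, sub_neg_eq_add, ← he₁, ← he₂, ← map_add, hy, sub_add_cancel]
  · rintro ⟨⟨y, c⟩, rfl⟩
    obtain ⟨q, rfl⟩ := hu.2 c
    show δ (e₁ y - e₂ (u q)) = 0
    rw [← he₁, ← he₂, ← map_sub, hδ, map_sub, hgd'.apply_apply_eq_zero, zero_sub, ← cd, map_neg, map_neg]
    show -(f₁ (eK.symm (eK (d q)))) = 0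
    rw [eK.symm_apply_apply, hdf.apply_apply_eq_zero, neg_zero]
  · obtain ⟨z, rfl⟩ := hu'.2 v
    rw [hδ, cf₁]
    show f₁' (eK (eK.symm (d' z))) = 0
    rw [eK.apply_symm_apply, hdf'.apply_apply_eq_zero]
  · rintro x ⟨t, rfl⟩ hx
    rw [cf₁] at hx
    obtain ⟨z, hz⟩ := (hdf' _).1 hx
    refine ⟨u' z, ?_⟩
    rw [hδ, hz]
    show f₁ (eK.symm (eK t)) = f₁ t
    rw [eK.symm_apply_apply]

end Groth.Agent.BlowSquareLib
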