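import Groth.Agent.BlowSquareLib.Algebra
import Groth.Agent.ShriekProper.Model
import Groth.Agent.CdFieldLib.Support
import Groth.Agent.ShriekLib.ExtZeroPull
import Groth.Agent.AcycCompLib.Criterion
import Groth.Agent.CompBCLib.Killed
import Groth.Agent.CompBCLib.Via
import Groth.Agent.BCVertLib.EtaleBCQ
import Groth.Agent.FLCLib.Filtration
import Groth.Agent.PBCLib.Fibration
import Groth.Agent.PBCCons.Torsion

/-!
# The long exact sequence of a proper square which is an isomorphism off a closed subscheme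
-/

set_option autoImplicit false
set_option backward.isDefEq.respectTransparency false
set_option backward.isDefEq.respectTransparency.types false
set_option linter.style.haveILetI false
set_option linter.unusedSectionVars false
set_option maxHeartbeats 1000000

universe u

open CategoryTheory CategoryTheory.Limits AlgebraicGeometry Opposite CategoryTheory.Abelian

attribute [local instance] Groth.Agent.S0101.result

noncomputable section

namespace Groth.Agent.BlowSquareLib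

variable {X : Scheme.{u}}

/-- Finite morphisms have no higher direct images. -/
theorem isZero_Rpush_finite {A B : Scheme.{u}} (i : A ⟶ B) [IsFinite i] (G : EtCoh.Ab A) (q : ℕ) :
    IsZero ((EtCoh.Rpush i (q + 1)).obj G) := by
  haveI := PBCLib.preservesFiniteColimits_push_integral i
  haveI : (EtCoh.push i).IsRightAdjoint := (EtCoh.pullPushAdj i).isRightAdjoint
  haveI : PreservesFiniteLimits (EtCoh.push i) := inferInstance
  haveI : (EtCoh.push i).PreservesHomology := inferInstance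
  let R := InjectiveResolution.of G
  have hR : (((EtCoh.push i).mapHomologicalComplex (ComplexShape.up ℕ)).obj R.cocomplex).ExactAt (q + 1) :=
    (R.cocomplex_exactAt_succ q).map (EtCoh.push i)
  exact ((HomologicalComplex.exactAt_iff_isZero_homology _ _).1 hR).of_iso
    (R.isoRightDerivedObj (EtCoh.push i) (q + 1))

/-- Sheaves supported in a closed subscheme have its cohomology. -/
theorem bijective_Hpull_of_supp {A B : Scheme.{u}} (i : A ⟶ B) [IsClosedImmersion i]
    [PreservesFiniteLimits (EtCoh.pull i)] (G : EtCoh.Ab B) (hG : EtPBC.supp G ⊆ Set.range i) (p : ℕ) :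
    Function.Bijective (EtCore.Hpull i G p) :=
  (AcycCompLib.bijective_Hpull_of_unit i p G p (CdFieldLib.isIso_unit_of_supp_closed i G hG) (fun q hq _ => by
    obtain ⟨m, rfl⟩ : ∃ m, q = m + 1 := ⟨q - 1, by omega⟩
    exact isZero_Rpush_finite i _ m)).1 le_rfl

theorem bijective_Hmap_of_isIso {F G : EtCoh.Ab X} (a : F ⟶ G) [IsIso a] (p : ℕ) :
    Function.Bijective (Sheaf.H.map a p) :=
  ConcreteCategory.bijective_of_isIso ((EtCoh.HF X p).map a)

theorem injective_Hmap_zero {F G : EtCoh.Ab X} (a : F ⟶ G) [Mono a] : Function.Injective (Sheaf.H.map a 0) := by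
  intro x y h
  obtain ⟨x, rfl⟩ := (Ext.mk₀_bijective _ _).2 x
  obtain ⟨y, rfl⟩ := (Ext.mk₀_bijective _ _).2 y
  rw [Sheaf.H.map_apply, Sheaf.H.map_apply, Ext.mk₀_comp_mk₀, Ext.mk₀_comp_mk₀] at h
  exact congrArg _ ((cancel_mono a).1 ((Ext.mk₀_bijective _ _).1 h))

section Support

variable {U : Scheme.{u}} (j : U ⟶ X) [IsOpenImmersion j] [EtShriek.JCont j] (F : EtCoh.Ab X)

/-- The quotient by the extension by zero lives off the open. -/
theorem supp_cokernel_counit :
    EtPBC.supp (cokernel ((EtShriek.extZeroAdj j).counit.app F)) ⊆ (Set.range j)ᶜ := by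
  intro x hx hxj
  obtain ⟨Ω, _, _, ξ, rfl, hne⟩ := CdFieldLib.exists_default_of_mem_supp hx
  obtain ⟨θ, rfl⟩ := EtPtsLib.exists_comp_eq j ξ hxj
  haveI := FLCLib.isIso_stalk_counit_on j F θ
  haveI : Epi ((EtCoh.stalk (θ ≫ j)).map (cokernel.π ((EtShriek.extZeroAdj j).counit.app F))) :=
    (AddCommGrpCat.epi_iff_surjective _).2 ((EtPtsLib.epi_iff_ab (cokernel.π ((EtShriek.extZeroAdj j).counit.app F))).1
      inferInstance Ω (θ ≫ j))
  refine hne (IsZero.of_epi_eq_zero
    ((EtCoh.stalk (θ ≫ j)).map (cokernel.π ((EtShriek.extZeroAdj j).counit.app F))) ?_)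
  rw [← cancel_epi ((EtCoh.stalk (θ ≫ j)).map ((EtShriek.extZeroAdj j).counit.app F)), ← Functor.map_comp,
    cokernel.condition, Functor.map_zero, comp_zero]

/-- Away from the open the quotient is everything. -/
theorem isIso_pull_cokernel {A : Scheme.{u}} (i : A ⟶ X) [PreservesFiniteLimits (EtCoh.pull i)]
    (hi : Set.range i ⊆ (Set.range j)ᶜ) :
    IsIso ((EtCoh.pull i).map (cokernel.π ((EtShriek.extZeroAdj j).counit.app F))) := by
  haveI := FLCLib.mono_counit j F
  let ε := (EtShriek.extZeroAdj j).counit.app F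
  have h0 : (ShortComplex.mk ε (cokernel.π ε) (cokernel.condition ε)).ShortExact :=
    { exact := ShortComplex.exact_of_g_is_cokernel _ (cokernelIsCokernel ε) }
  haveI := BCDLib.rightExactPull i
  refine (h0.map_of_exact (EtCoh.pull i)).isIso_g_iff.2 ((EtPtsLib.isZero_iff_ab _).2 fun Ω _ _ ζ => ?_)
  refine IsZero.of_iso (EtPtsLib.isZero_stalk_extZero j (ζ ≫ i) ?_ _) (CdFieldLib.stalkCompIso i ζ _)
  intro h
  exact hi ⟨ζ default, (Scheme.Hom.comp_apply _ _ _).symm⟩ h

end Support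

variable {X' U : Scheme.{u}} (b : X' ⟶ X) [IsProper b] (j : U ⟶ X) [IsOpenImmersion j] [EtShriek.JCont j]
  {U' : Scheme.{u}} (j' : U' ⟶ X') [IsOpenImmersion j'] [EtShriek.JCont j'] (p : U' ⟶ U) [IsIso p]

/-- An extension by zero from the open where `b` is an isomorphism does not see `b`. -/
theorem bijective_Hpull_extZero [PreservesFiniteLimits (EtCoh.pull b)] (h : IsPullback j' p b j) (G : EtCoh.Ab U)
    (hG : EtCoh.IsTorsion G) (q : ℕ) : Function.Bijective (EtCore.Hpull b ((EtShriek.extZero j).obj G) q) := by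
  let K := (EtShriek.extZero j).obj G
  let eK : (EtCoh.pull b).obj K ≅ (EtShriek.extZero j').obj ((EtCoh.pull p).obj G) :=
    (ShriekLib.extZeroPullIso b j j' p h).app G
  haveI : LocallyQuasiFinite (j' ≫ b) := by rw [h.w]; infer_instance
  have hz : ∀ (A : EtCoh.Ab X), A = (EtCoh.push b).obj ((EtCoh.pull b).obj K) →
      ∀ (Ω : Type u) [Field Ω] [IsSepClosed Ω] (ξ : Spec (CommRingCat.of Ω) ⟶ X),
        ξ default ∉ Set.range j → IsZero ((EtCoh.stalk ξ).obj A) := by
    rintro A rfl Ω _ _ ξ hξ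
    haveI := ShriekProper.isIso_extZeroToLowerShriek_open j'
    let e : (EtCoh.push b).obj ((EtCoh.pull b).obj K) ≅
        (EtShriek.lowerShriek (j' ≫ b)).obj ((EtCoh.pull p).obj G) :=
      (EtCoh.push b).mapIso eK ≪≫ (Functor.isoWhiskerRight (asIso (ShriekLib.extZeroToLowerShriek j')) _ ≪≫
        ShriekProper.lowerShriekPushCompIso j' b).app _
    refine IsZero.of_iso ?_ ((EtCoh.stalk ξ).mapIso e)
    by_contra hne
    obtain ⟨x, hx⟩ := ShriekProper.supp_lowerShriek_subset (j' ≫ b) _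
      ⟨Ω, inferInstance, inferInstance, ξ, EtPtsLib.range_eq_singleton ξ, hne⟩
    exact hξ ⟨p x, by rw [← Scheme.Hom.comp_apply, ← h.w, hx]⟩
  have hu : IsIso ((EtCoh.pullPushAdj b).unit.app K) := by
    haveI : IsIso ((EtCoh.pull j).map ((EtCoh.pullPushAdj b).unit.app K)) := by
      haveI : IsIso ((EtCoh.pullPushAdj p).unit.app ((EtCoh.pull j).obj K)) :=
        CdFieldLib.isIso_unit_of_supp_closed p _ (by
          rw [Set.range_eq_univ.2 p.surjective]
          exact Set.subset_univ _)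
      haveI := BCVertLib.isIso_baseChange0_etale b j p j' h ((EtCoh.pull b).obj K)
      have e := CompBCLib.pull_unit_baseChange0 b j p j' h.w K
      exact IsIso.of_isIso_fac_right e
    refine FLCLib.isIso_of_stalk _ fun Ω _ _ ξ => ?_
    by_cases hξ : ξ default ∈ Set.range j
    · obtain ⟨ζ, rfl⟩ := EtPtsLib.exists_comp_eq j ξ hξ
      exact (NatIso.isIso_map_iff (FLCLib.stalkPullIso j ζ) _).1
        (Functor.map_isIso (EtCoh.stalk ζ) ((EtCoh.pull j).map ((EtCoh.pullPushAdj b).unit.app K)))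
    · exact isIso_of_source_target_iso_zero _ (EtPtsLib.isZero_stalk_extZero j ξ hξ _).isoZero
        (hz _ rfl Ω ξ hξ).isoZero
  refine (AcycCompLib.bijective_Hpull_of_unit b q K q hu fun m hm _ => ?_).1 le_rfl
  obtain ⟨m, rfl⟩ : ∃ k, m = k + 1 := ⟨m - 1, by omega⟩
  exact (ShriekProper.isZero_Rpush_extZero_lqf j' b _ (PBCCons.isTorsion_pull p hG) m).of_iso
    ((EtCoh.Rpush b (m + 1)).mapIso eK)

/-- The long exact sequence of the square. -/
theorem exists_longExact {Z E : Scheme.{u}} (i : Z ⟶ X) [IsClosedImmersion i] (j₁ : E ⟶ X') [IsClosedImmersion j₁]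
    (π : E ⟶ Z) (w : j₁ ≫ b = π ≫ i) (h : IsPullback j' p b j) (hij : Set.range j = (Set.range i)ᶜ)
    (hE : b ⁻¹' Set.range i ⊆ Set.range j₁)
    [PreservesFiniteLimits (EtCoh.pull b)] [PreservesFiniteLimits (EtCoh.pull i)]
    [PreservesFiniteLimits (EtCoh.pull j₁)] [PreservesFiniteLimits (EtCoh.pull π)]
    (F : EtCoh.Ab X) (hF : EtCoh.IsTorsion F) :
    ∃ δ : ∀ n : ℕ, EtCoh.H E ((EtCoh.pull (j₁ ≫ b)).obj F) n →+ EtCoh.H X F (n + 1),
      Function.Injective (fun e : EtCoh.H X F 0 => (EtCore.Hpull b F 0 e, EtCore.Hpull i F 0 e)) ∧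
      ∀ n : ℕ,
        Function.Exact (fun e : EtCoh.H X F n => (EtCore.Hpull b F n e, EtCore.Hpull i F n e))
          (fun v : EtCoh.H X' ((EtCoh.pull b).obj F) n × EtCoh.H Z ((EtCoh.pull i).obj F) n =>
            EtCore.HpullVia j₁ b (j₁ ≫ b) rfl F n v.1 - EtCore.HpullVia π i (j₁ ≫ b) w.symm F n v.2) ∧
        Function.Exact
          (fun v : EtCoh.H X' ((EtCoh.pull b).obj F) n × EtCoh.H Z ((EtCoh.pull i).obj F) n =>
            EtCore.HpullVia j₁ b (j₁ ≫ b) rfl F n v.1 - EtCore.HpullVia π i (j₁ ≫ b) w.symm F n v.2) (δ n) ∧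
        Function.Exact (δ n)
          (fun e : EtCoh.H X F (n + 1) => (EtCore.Hpull b F (n + 1) e, EtCore.Hpull i F (n + 1) e)) := by
  let c := j₁ ≫ b
  let ε := (EtShriek.extZeroAdj j).counit.app F
  haveI : Mono ε := FLCLib.mono_counit j F
  let S := ShortComplex.mk ε (cokernel.π ε) (cokernel.condition ε)
  have hS : S.ShortExact := { exact := ShortComplex.exact_of_g_is_cokernel _ (cokernelIsCokernel ε) }
  haveI := BCDLib.rightExactPull b
  have hS' := hS.map_of_exact (EtCoh.pull b)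
  have hi : Set.range i ⊆ (Set.range j)ᶜ := by rw [hij, compl_compl]
  have hc : Set.range c ⊆ (Set.range j)ᶜ := by
    rintro _ ⟨e, rfl⟩
    exact hi ⟨π e, by rw [← Scheme.Hom.comp_apply, ← w]⟩
  haveI : IsIso ((EtCoh.pull i).map (cokernel.π ε)) := isIso_pull_cokernel j F i hi
  haveI : IsIso ((EtCoh.pull c).map (cokernel.π ε)) := isIso_pull_cokernel j F c hc
  have hsQ : EtPBC.supp (cokernel ε) ⊆ Set.range i := fun x hx => by
    have := supp_cokernel_counit j F hx
    rwa [hij, compl_compl] at this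
  have hsQ' : EtPBC.supp ((EtCoh.pull b).obj (cokernel ε)) ⊆ Set.range j₁ := fun x hx => by
    obtain ⟨Ω, _, _, ξ, rfl, hne⟩ := CdFieldLib.exists_default_of_mem_supp hx
    refine hE (hsQ ⟨Ω, inferInstance, inferInstance, ξ ≫ b, ?_, fun hz => hne
      (hz.of_iso (CdFieldLib.stalkCompIso b ξ _))⟩)
    rw [EtPtsLib.range_eq_singleton, Scheme.Hom.comp_apply]
  have hK : EtCoh.IsTorsion ((EtShriek.restrAlong j).obj F) :=
    PBCLib.isTorsion_of_epi ((EtPtsLib.pullIsoRestr j).hom.app F) (PBCCons.isTorsion_pull j hF)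
  have hk : ∀ n, Function.Bijective (EtCore.Hpull b S.X₁ n) := fun n =>
    bijective_Hpull_extZero b j j' p h ((EtShriek.restrAlong j).obj F) hK n
  let u : ∀ n, EtCoh.H X S.X₃ n →+ EtCoh.H Z ((EtCoh.pull i).obj F) n := fun n =>
    (Sheaf.H.map (inv ((EtCoh.pull i).map (cokernel.π ε))) n).comp (EtCore.Hpull i S.X₃ n)
  have hu : ∀ n, Function.Bijective (u n) := fun n =>
    (bijective_Hmap_of_isIso (inv ((EtCoh.pull i).map (cokernel.π ε))) n).comp
      (bijective_Hpull_of_supp i S.X₃ hsQ n)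
  let u' : ∀ n, EtCoh.H X' ((EtCoh.pull b).obj S.X₃) n →+ EtCoh.H E ((EtCoh.pull c).obj F) n := fun n =>
    (Sheaf.H.map (inv ((EtCoh.pull c).map (cokernel.π ε))) n).comp (EtCore.HpullVia j₁ b c rfl S.X₃ n)
  have hu' : ∀ n, Function.Bijective (u' n) := fun n =>
    (bijective_Hmap_of_isIso (inv ((EtCoh.pull c).map (cokernel.π ε))) n).comp
      ((bijective_Hmap_of_isIso (((EtCore.pullComp j₁ b).symm ≪≫ EtCore.pullCongr rfl).app S.X₃).hom n).comp
        (bijective_Hpull_of_supp j₁ _ hsQ' n))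
  have hα : ∀ n x, u n (Sheaf.H.map S.g n x) = EtCore.Hpull i F n x := fun n x => by
    show Sheaf.H.map _ n (EtCore.Hpull i S.X₃ n (Sheaf.H.map S.g n x)) = _
    rw [CompBCLib.Hpull_map i S.g x, ← Sheaf.H.map_comp_apply, IsIso.hom_inv_id]
    exact Sheaf.H.map_id_apply _
  have he₁ : ∀ n y, u' n (Sheaf.H.map ((EtCoh.pull b).map S.g) n y) = EtCore.HpullVia j₁ b c rfl F n y :=
    fun n y => by
      show Sheaf.H.map _ n (EtCore.HpullVia j₁ b c rfl S.X₃ n (Sheaf.H.map ((EtCoh.pull b).map S.g) n y)) = _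
      rw [CompBCLib.HpullVia_natural b j₁ c rfl S.g n y, ← Sheaf.H.map_comp_apply, IsIso.hom_inv_id]
      exact Sheaf.H.map_id_apply _
  haveI : PreservesFiniteLimits (EtCoh.pull c) := Groth.Agent.S0101.result c
  have he₂ : ∀ n z, u' n (EtCore.Hpull b S.X₃ n z) = EtCore.HpullVia π i c w.symm F n (u n z) := fun n z => by
    let y := Sheaf.H.map (inv ((EtCoh.pull i).map (cokernel.π ε))) n (EtCore.Hpull i S.X₃ n z)
    have hy : Sheaf.H.map ((EtCoh.pull i).map S.g) n y = EtCore.Hpull i S.X₃ n z := by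
      rw [← Sheaf.H.map_comp_apply, IsIso.inv_hom_id, Sheaf.H.map_id_apply]
    show Sheaf.H.map _ n (EtCore.HpullVia j₁ b c rfl S.X₃ n (EtCore.Hpull b S.X₃ n z)) =
      EtCore.HpullVia π i c w.symm F n y
    rw [CompBCLib.HpullVia_Hpull b j₁ c rfl S.X₃ n z, ← CompBCLib.HpullVia_Hpull i π c w.symm S.X₃ n z, ← hy,
      CompBCLib.HpullVia_natural i π c w.symm S.g n y, ← Sheaf.H.map_comp_apply, IsIso.hom_inv_id]
    exact Sheaf.H.map_id_apply _
  have hex₂ : ∀ {T : Scheme.{u}} {P : ShortComplex (EtCoh.Ab T)}, P.ShortExact → ∀ n,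
      Function.Exact (Sheaf.H.map P.f n) (Sheaf.H.map P.g n) := fun hP n =>
    (ShortComplex.ab_exact_iff_function_exact _).1 (Ext.covariant_sequence_exact₂' _ hP n)
  have hex₃ : ∀ {T : Scheme.{u}} {P : ShortComplex (EtCoh.Ab T)} (hP : P.ShortExact), ∀ n,
      Function.Exact (Sheaf.H.map P.g n) (hP.extClass.postcomp (EtCoh.const T ℤ) (rfl : n + 1 = n + 1)) :=
    fun hP n => (ShortComplex.ab_exact_iff_function_exact _).1 (Ext.covariant_sequence_exact₃' _ hP n (n + 1) rfl)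
  have hex₁ : ∀ {T : Scheme.{u}} {P : ShortComplex (EtCoh.Ab T)} (hP : P.ShortExact), ∀ n,
      Function.Exact (hP.extClass.postcomp (EtCoh.const T ℤ) (rfl : n + 1 = n + 1)) (Sheaf.H.map P.f (n + 1)) :=
    fun hP n => (ShortComplex.ab_exact_iff_function_exact _).1 (Ext.covariant_sequence_exact₁' _ hP n (n + 1) rfl)
  have key := fun n => exists_mayerVietoris (Sheaf.H.map S.f n) (Sheaf.H.map S.g n)
    (hS.extClass.postcomp (EtCoh.const X ℤ) (rfl : n + 1 = n + 1)) (Sheaf.H.map S.f (n + 1))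
    (Sheaf.H.map ((EtCoh.pull b).map S.f) n) (Sheaf.H.map ((EtCoh.pull b).map S.g) n)
    (hS'.extClass.postcomp (EtCoh.const X' ℤ) (rfl : n + 1 = n + 1)) (Sheaf.H.map ((EtCoh.pull b).map S.f) (n + 1))
    (EtCore.Hpull b S.X₁ n) (EtCore.Hpull b S.X₂ n) (EtCore.Hpull b S.X₃ n) (EtCore.Hpull b S.X₁ (n + 1))
    (EtCore.Hpull b S.X₂ (n + 1)) (hk n) (hk (n + 1)) (fun x => CompBCLib.Hpull_map b S.f x)
    (fun x => CompBCLib.Hpull_map b S.g x) (fun x => CompBCLib.Hpull_δ b hS x)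
    (fun x => CompBCLib.Hpull_map b S.f x) (hex₂ hS n) (hex₃ hS n) (hex₁ hS n)
    (hex₂ hS' n) (hex₃ hS' n) (hex₁ hS' n) (u n) (hu n) (u' n) (hu' n)
    (EtCore.Hpull i F n) (EtCore.HpullVia j₁ b c rfl F n) (EtCore.HpullVia π i c w.symm F n)
    (hα n) (he₁ n) (he₂ n)
  choose δ h₁ h₂ h₃ h₄ h₅ using key
  refine ⟨δ, ?_, fun n => ⟨h₁ n, h₂ n, fun x => ⟨fun hx => ?_, ?_⟩⟩⟩
  · intro x y hxy
    obtain ⟨hxy₁, hxy₂⟩ := Prod.ext_iff.1 hxy
    rw [← sub_eq_zero]
    have hb : EtCore.Hpull b F 0 (x - y) = 0 := by rw [map_sub, sub_eq_zero]; exact hxy₁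
    have hi0 : Sheaf.H.map S.g 0 (x - y) = 0 :=
      (hu 0).1 (by rw [hα, map_zero, map_sub, sub_eq_zero]; exact hxy₂)
    obtain ⟨k, hk'⟩ := (hex₂ hS 0 (x - y)).1 hi0
    haveI : Mono ((EtCoh.pull b).map S.f) := hS'.mono_f
    have h0 : EtCore.Hpull b S.X₁ 0 k = 0 := injective_Hmap_zero ((EtCoh.pull b).map S.f) (by
      rw [← CompBCLib.Hpull_map b S.f k, hk', map_zero]
      exact hb)
    rw [← hk', (hk 0).1 (h0.trans (map_zero _).symm), map_zero]
  · have hg : Sheaf.H.map S.g (n + 1) x = 0 := (hu (n + 1)).1 (by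
      rw [hα, map_zero]
      exact congrArg Prod.snd hx)
    exact h₅ n x ((hex₂ hS (n + 1) x).1 hg) (congrArg Prod.fst hx)
  · rintro ⟨v, rfl⟩
    refine Prod.ext (h₃ n v) ?_
    obtain ⟨k, hk'⟩ := h₄ n v
    show EtCore.Hpull i F (n + 1) (δ n v) = 0
    rw [← hk', ← hα, (hex₂ hS (n + 1)).apply_apply_eq_zero, map_zero]

end Groth.Agent.BlowSquareLib
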